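import Mathlib
import Cfsg.Agent.Lib.PF.S1_Ext
import Cfsg.Agent.Lib.PF.S1_Tail
import Cfsg.Agent.Lib.PF.S1_Frob

/-! Peterfalvi, section 1 and general character theory (interface; the proofs are in the files `S1_*`). -/
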