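import Mathlib
import Cfsg.Agent.Lib.PF.S2_1
import Cfsg.Agent.Lib.PF.S2_2
import Cfsg.Agent.Lib.PF.S2_3

/-! Peterfalvi, section 2: the Dade isometry (interface; the proofs are in `S2_1`-`S2_3`). -/
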