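/-
Peterfalvi, section 3: interface.  `CycPair.*` = the characters `ω_ij` of `W` (file `S3_1`);
`CycTIIn.*` = section 3 relative to a subgroup `T` (files `S3_3`, `S3_4`); `CycTI.*` = the same for
the whole group (file `S3_5`).
-/
import Mathlib
import Cfsg.Agent.Lib.PF.Defs3
import Cfsg.Agent.Lib.PF.Irr
import Cfsg.Agent.Lib.PF.S3_1
import Cfsg.Agent.Lib.PF.S3_3
import Cfsg.Agent.Lib.PF.S3_4
import Cfsg.Agent.Lib.PF.S3_5
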