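/-
Peterfalvi, section 4.
-/
import Mathlib
import Cfsg.Agent.Lib.PF.S4_4
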