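import Mathlib
import Cfsg.Agent.Lib.PF.S7_1
import Cfsg.Agent.Lib.PF.S7_2
import Cfsg.Agent.Lib.PF.S7_3

/-! Peterfalvi, section 7 (interface; the proofs are in `S7_1`-`S7_3`). -/
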