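import Mathlib
import Cfsg.Agent.Lib.PF.S8_1

/-! Peterfalvi, section 8 (interface; the proofs are in `S8_1`, the group theory in `Lib/BG/Sec16`). -/
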