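/-
Peterfalvi, section 10 (maximal subgroups of types III, IV and V): umbrella file.
`S10_1`, `S10_2`: abstract part (hypothesis `S10.Hyp10`), (10.5), (10.6), (10.9);
`S10_3`: (10.2), (10.3), (10.7), (10.8); `S10_4`: (10.10), (10.11).
-/
import Mathlib
import Cfsg.Agent.Lib.PF.S10_4
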