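import Mathlib
import Cfsg.Agent.Lib.PF.S12_1
import Cfsg.Agent.Lib.PF.S12_2
import Cfsg.Agent.Lib.PF.S12_3
import Cfsg.Agent.Lib.PF.S12_4

/-! Peterfalvi, section 12 (interface; the proofs are in `S12_1`-`S12_4`). -/
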