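/-
Peterfalvi (9.10) from (9.8)(c) and (9.9).
-/
import Mathlib
import Cfsg.Agent.Lib.PF.S9_11b
import Cfsg.Agent.Lib.PF.S9_4

set_option autoImplicit false

namespace CfsgLib.PF.S911

open Cfsg CfsgLib.BG

variable {G : Type*} [Group G] [Finite G] {M W₁ U W₂ : Subgroup G}

theorem reducible_core_cases_of (h : TypeP9 M W₁ U W₂)
    (h8 : ¬ TypePGalois M U → ∃ ζ : G → ℂ, IsIrr M ζ ∧ IsIndHC M W₁ U ζ)
    (h9 : TypePGalois M U → ∀ χ : G → ℂ, IsIrr ⁅M, M⁆ χ → ¬ InKer (fittingHallOf M) χ →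
      InKer (FcoreKer M U ⊔ ⁅FcomplKer M U, FcomplKer M U⁆) χ →
      χ 1 = ((FcomplKer M U).relIndex U : ℂ) ∧
        ∃ ξ : G → ℂ, IsLin (fittingHallOf M ⊔ FcomplKer M U) ξ ∧
          χ = Ind ⁅M, M⁆ (fittingHallOf M ⊔ FcomplKer M U) ξ)
    (h9c : TypePGalois M U →
      (∀ ζ ∈ seqIndD ⁅M, M⁆ M (fittingHallOf M) (FcoreKer M U ⊔ ⁅FcomplKer M U, FcomplKer M U⁆),
        ¬ IsIrr M ζ) →
      FcomplKer M U = ⊥ ∧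
      (FcomplKer M U).relIndex U = (FcorePrime M U ^ Nat.card W₁ - 1) / (FcorePrime M U - 1) ∧
      Frob (fittingHallOf M ⧸⧸ FcoreKer M U) (U ⧸⧸ FcoreKer M U) (⁅M, M⁆ ⧸⧸ FcoreKer M U)) :
    (∃ ζ : G → ℂ, IsIrr M ζ ∧
      ζ ∈ seqIndD ⁅M, M⁆ M (fittingHallOf M) (FcoreKer M U ⊔ ⁅FcomplKer M U, FcomplKer M U⁆) ∧
      ζ 1 = ((Nat.card W₁ * (FcomplKer M U).relIndex U : ℕ) : ℂ) ∧
      ∃ ξ : G → ℂ, IsLin (fittingHallOf M ⊔ FcomplKer M U) ξ ∧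
        ζ = Ind M (fittingHallOf M ⊔ FcomplKer M U) ξ) ∨
    (TypePGalois M U ∧ FcomplKer M U = ⊥ ∧
      Frob (fittingHallOf M ⧸⧸ FcoreKer M U) (U ⧸⧸ FcoreKer M U) (⁅M, M⁆ ⧸⧸ FcoreKer M U) ∧
      IsCyclic U ∧ Nat.card U = (FcorePrime M U ^ Nat.card W₁ - 1) / (FcorePrime M U - 1)) := by
  by_cases hg : TypePGalois M U
  swap
  · obtain ⟨ζ, h1, h2, h3, h4⟩ := h8 hg
    exact Or.inl ⟨ζ, h1, Sc_subset h h3, h2, h4⟩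
  by_cases hi : ∃ ζ ∈ seqIndD ⁅M, M⁆ M (fittingHallOf M)
      (FcoreKer M U ⊔ ⁅FcomplKer M U, FcomplKer M U⁆), IsIrr M ζ
  · obtain ⟨ζ, hζ, h1⟩ := hi
    obtain ⟨χ, hχ, h2, h3, rfl⟩ := mem_seqIndD.1 hζ
    obtain ⟨h4, ξ, hξ, h5⟩ := h9 hg χ hχ h2 h3
    refine Or.inl ⟨_, h1, hζ, ?_, ξ, hξ, ?_⟩
    · rw [Ind_apply_one (K_normal h).1, h.index_K, h4, Nat.cast_mul]
    · rw [h5, Ind_Ind h.HC_le (K_normal h).1]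
  · push Not at hi
    obtain ⟨h1, h2, h3⟩ := h9c hg hi
    refine Or.inr ⟨hg, h1, h3, ?_, by rw [← h2, h1, Subgroup.relIndex_bot_left]⟩
    have hc := h.Galois_cyclic hg
    obtain ⟨x, hx, hx'⟩ := (quo_cyclic_iff h.compl_normal_U.2).1 hc
    rw [h1, sup_bot_eq] at hx'
    rw [le_antisymm hx' (Subgroup.zpowers_le.2 hx)]
    infer_instance

end CfsgLib.PF.S911
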